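import Cfsg.Agent.CosetEnum.Fi24.Setup
import Cfsg.Agent.CosetEnum.Upper

set_option autoImplicit false
set_option maxRecDepth 100000
set_option exponentiation.threshold 200000
set_option Elab.async false

/-! The long element of type E7 is central (generated certificate). -/

namespace CfsgLib.CosetEnum.Fi24P

/-- The word of the long element. -/
def uWord : List ℕ := [0, 1, 2, 3, 4, 5, 7, 0, 1, 2, 3, 4, 5, 7, 0, 1, 2, 3, 4, 5, 7, 0, 1, 2, 3, 4, 5, 7, 0, 1, 2, 3, 4, 5, 7, 0, 1, 2, 3, 4, 5, 7, 0, 1, 2, 3, 4, 5, 7, 0, 1, 2, 3, 4, 5, 7, 0, 1, 2, 3, 4, 5, 7]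

theorem inv_eq (x : ℕ) : (Fi24.setup.g x)⁻¹ = Fi24.setup.g x :=
  inv_eq_of_mul_eq_one_right (Fi24.setup.of_sq _)

theorem uWord_eq : prodw Fi24.setup.g uWord = Fi24.setup.g 11 := by
  have h := Fi24.setup.prod_mem ([11] ++ uWord.reverse) (show _ ∈ Fi24.words by decide +kernel)
  rw [prodw_append, ← List.map_id uWord, prodw_rev_iv (g := Fi24.setup.g) 12 id (fun x _ _ => (inv_eq x).symm) uWord
    (by decide +kernel)] at h
  have h' : Fi24.setup.g 11 * (prodw Fi24.setup.g uWord)⁻¹ = 1 := by simpa [prodw] using h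
  exact (mul_inv_eq_one.mp h').symm

theorem uWord_rev : prodw Fi24.setup.g uWord.reverse = Fi24.setup.g 11 := by
  have h := prodw_rev_iv (g := Fi24.setup.g) 12 id (fun x _ _ => (inv_eq x).symm) uWord (by decide +kernel)
  rw [List.map_id, uWord_eq, inv_eq] at h
  exact h

/-- Words saying that the long element is a central involution. -/
def centralWords : List (List ℕ) :=
  (uWord ++ uWord) :: [0, 1, 2, 3, 4, 5, 7, 8].map fun x => [x] ++ uWord ++ [x] ++ uWord.reverse

theorem centralWords_one : ∀ w ∈ centralWords, prodw Fi24.setup.g w = 1 := by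
  intro w hw
  rcases List.mem_cons.mp hw with rfl | hw
  · rw [prodw_append, uWord_eq]
    exact Fi24.setup.of_sq _
  · obtain ⟨x, hx, rfl⟩ := List.mem_map.mp hw
    have hc : [x, 11, x, 11] ∈ Fi24.words := by
      simp only [List.mem_cons, List.not_mem_nil, or_false] at hx
      rcases hx with rfl | rfl | rfl | rfl | rfl | rfl | rfl | rfl <;> decide +kernel
    have h := Fi24.setup.prod_mem _ hc
    rw [prodw_append, prodw_append, prodw_append, uWord_eq, uWord_rev]
    simpa [prodw, mul_assoc] using h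

end CfsgLib.CosetEnum.Fi24P
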